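/-
The lattice modulo twice itself as a module for the automorphism group.
-/
import Cfsg.Agent.Lib.Leech.Classes

set_option autoImplicit false

namespace CfsgLib.Leech

open Cfsg CfsgLib.Golay
open scoped Pointwise

/-- An automorphism trivial modulo twice the lattice preserves the standard cross. -/
theorem stdP_of_trivial {g : ↥Co0}
    (h : ∀ v : leechLattice, ∃ w : leechLattice, ((g • v : leechLattice) : GolayPt → ℤ) - (v : GolayPt → ℤ) = (2 : ℕ) • (w : GolayPt → ℤ)) :
    StdP g := by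
  intro v hv
  obtain ⟨i, s, hs, he⟩ := hv
  rw [← cross_single i hs, ← he]
  obtain ⟨w, hw⟩ := h v
  refine ⟨(g • v).2, by rw [sqNorm_smul_Co0], ((-w : leechLattice) : GolayPt → ℤ), (-w).2, ?_⟩
  have h1 : (v : GolayPt → ℤ) - ((g • v : leechLattice) : GolayPt → ℤ) = -(((g • v : leechLattice) : GolayPt → ℤ) - (v : GolayPt → ℤ)) := by
    abel
  rw [h1, hw]
  funext j
  simp

/-- A trivial automorphism has trivial permutation part. -/
theorem perm_trivial {g : ↥Co0} {σ : Equiv.Perm GolayPt} {c : Finset GolayPt}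
    (hact : ∀ v : leechLattice, ((g • v : leechLattice) : GolayPt → ℤ) = signedPerm σ c v)
    (h : ∀ v : leechLattice, ∃ w : leechLattice, ((g • v : leechLattice) : GolayPt → ℤ) - (v : GolayPt → ℤ) = (2 : ℕ) • (w : GolayPt → ℤ)) :
    σ = 1 := by
  classical
  have key : ∀ a b : GolayPt, a ≠ b → σ a = a ∨ σ a = b := by
    intro a b hab
    by_contra hcon
    push Not at hcon
    obtain ⟨h1, h2⟩ := hcon
    have hv : (Pi.single a 4 - Pi.single b (-4) : GolayPt → ℤ) ∈ leechLattice := single_sub_mem (Or.inl rfl) (Or.inr rfl)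
    let V : GolayPt → ℤ := Pi.single a 4 - Pi.single b (-4)
    have hVa : V a = 4 := by simp [V, Pi.single_eq_of_ne hab]
    have hVb : V b = 4 := by simp [V, Pi.single_eq_of_ne hab.symm]
    have hV0 : ∀ j, j ≠ a → j ≠ b → V j = 0 := by
      intro j h3 h4
      simp [V, Pi.single_eq_of_ne h3, Pi.single_eq_of_ne h4]
    obtain ⟨W, hW⟩ := h ⟨V, hv⟩
    rw [hact] at hW
    obtain ⟨m, c', hd⟩ := mem_leech_iff.mp W.2
    have hWj : ∀ j, signedPerm σ c V j - V j = 2 * (W : GolayPt → ℤ) j := by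
      intro j
      have h3 := congrFun hW j
      simp only [Pi.sub_apply, Pi.smul_apply, nsmul_eq_mul] at h3
      push_cast at h3
      exact h3
    -- a point outside the support
    have hsub : ∀ j, j ≠ a → j ≠ b → j ≠ σ a → j ≠ σ b → (W : GolayPt → ℤ) j = 0 := by
      intro j h3 h4 h5 h6
      have h7 := hWj j
      rw [hV0 j h3 h4] at h7
      have h8 : σ.symm j ≠ a := fun h9 => h5 (by rw [← h9]; simp)
      have h9 : σ.symm j ≠ b := fun h9 => h6 (by rw [← h9]; simp)
      have h10 : signedPerm σ c V j = 0 := by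
        simp [signedPerm, hV0 _ h8 h9]
      rw [h10] at h7
      omega
    -- the exceptional set
    let E : Finset GolayPt := {a, b, σ a, σ b}
    have hEcard : E.card ≤ 4 := Finset.card_le_four
    obtain ⟨j0, hj0⟩ : ∃ j, j ∉ E := by
      by_contra hall
      push Not at hall
      have : E = Finset.univ := Finset.eq_univ_of_forall hall
      rw [this, Finset.card_univ, card_pts] at hEcard
      omega
    have hj0' : j0 ≠ a ∧ j0 ≠ b ∧ j0 ≠ σ a ∧ j0 ≠ σ b := by
      simpa [E] using hj0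
    have hW0 := hsub j0 hj0'.1 hj0'.2.1 hj0'.2.2.1 hj0'.2.2.2
    have hm : m = 0 := by
      rcases hd.hm with h3 | h3
      · exact h3
      · exfalso
        have h4 := hd.h4 j0
        rw [hW0, h3] at h4
        have h5 := ind_cases c' j0
        unfold Int.ModEq at h4
        omega
    subst hm
    have hcsub : c' ⊆ E := by
      intro j hj
      by_contra hj2
      have hj3 : j ≠ a ∧ j ≠ b ∧ j ≠ σ a ∧ j ≠ σ b := by
        simpa [E] using hj2
      have h4 := hd.h4 j
      rw [hsub j hj3.1 hj3.2.1 hj3.2.2.1 hj3.2.2.2] at h4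
      have h5 : ind c' j = 1 := by simp [ind, hj]
      rw [h5] at h4
      unfold Int.ModEq at h4
      omega
    have hc0 : c' = ∅ := by
      have h3 := (Finset.card_le_card hcsub).trans hEcard
      apply Finset.card_eq_zero.mp
      rcases sup_card hd.hc with h4 | h4 | h4 | h4 | h4 <;> omega
    subst hc0
    have h3 := hd.h4 (σ a)
    have h4 := hWj (σ a)
    rw [hV0 _ h1 h2] at h4
    have h5 : signedPerm σ c V (σ a) = 4 ∨ signedPerm σ c V (σ a) = -4 := by
      simp only [signedPerm, Equiv.symm_apply_apply, hVa]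
      split_ifs <;> simp
    have h6 : ind (∅ : Finset GolayPt) (σ a) = 0 := by simp [ind]
    rw [h6] at h3
    unfold Int.ModEq at h3
    omega
  apply Equiv.ext
  intro a
  rw [Equiv.Perm.one_apply]
  by_contra hne
  obtain ⟨b, hb1, hb2⟩ : ∃ b : GolayPt, b ≠ a ∧ b ≠ σ a := by
    by_contra hall
    push Not at hall
    have : ∀ b : GolayPt, b ∈ ({a, σ a} : Finset GolayPt) := by
      intro b
      by_cases h5 : b = a
      · simp [h5]
      · simp [hall b h5]
    have h6 : ({a, σ a} : Finset GolayPt) = Finset.univ := Finset.eq_univ_of_forall this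
    have h7 := Finset.card_le_two (a := a) (b := σ a)
    rw [h6, Finset.card_univ, card_pts] at h7
    omega
  rcases key a b hb1.symm with h5 | h5
  · exact hne h5
  · exact hb2 h5.symm

/-- The kernel of the action modulo twice the lattice is the centre. -/
theorem central_of_trivial {g : ↥Co0}
    (h : ∀ v : leechLattice, ∃ w : leechLattice, ((g • v : leechLattice) : GolayPt → ℤ) - (v : GolayPt → ℤ) = (2 : ℕ) • (w : GolayPt → ℤ)) :
    g ∈ Subgroup.center ↥Co0 := by
  classical
  obtain ⟨σ, hσ, c, hc, hact⟩ := monomial_of_std g (stdP_of_trivial h)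
  have hσ1 := perm_trivial hact h
  subst hσ1
  have hodd : ∀ k, vodd k % 4 = 1 := by
    intro k
    simp only [vodd, Pi.add_apply]
    by_cases h1 : k = pt 0
    · subst h1
      simp
    · simp [Pi.single_eq_of_ne h1]
  obtain ⟨W, hW⟩ := h ⟨vodd, vodd_mem⟩
  rw [hact] at hW
  obtain ⟨m, c', hd⟩ := mem_leech_iff.mp W.2
  have hWj : ∀ j, signedPerm 1 c vodd j - vodd j = 2 * (W : GolayPt → ℤ) j := by
    intro j
    have h3 := congrFun hW j
    simp only [Pi.sub_apply, Pi.smul_apply, nsmul_eq_mul] at h3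
    push_cast at h3
    exact h3
  have hval : ∀ j, (j ∈ c → (W : GolayPt → ℤ) j = - vodd j) ∧ (j ∉ c → (W : GolayPt → ℤ) j = 0) := by
    intro j
    have h3 := hWj j
    simp only [signedPerm] at h3
    have h4 : (1 : Equiv.Perm GolayPt).symm j = j := rfl
    rw [h4] at h3
    constructor
    · intro h5
      rw [if_pos h5] at h3
      omega
    · intro h5
      rw [if_neg h5] at h3
      omega
  have hcases : c = ∅ ∨ c = Finset.univ := by
    by_contra hcon
    push Not at hcon
    obtain ⟨h1, h2⟩ := hcon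
    obtain ⟨j, hj⟩ := h1
    obtain ⟨k, hk⟩ : ∃ k, k ∉ c := by
      by_contra hall
      push Not at hall
      exact h2 (Finset.eq_univ_of_forall hall)
    have h3 := hd.h4 j
    have h4 := hd.h4 k
    rw [(hval j).1 hj] at h3
    rw [(hval k).2 hk] at h4
    have h5 := hodd j
    have h6 := ind_cases c' j
    have h7 := ind_cases c' k
    unfold Int.ModEq at h3 h4
    rcases hd.hm with h8 | h8 <;> rw [h8] at h3 h4 <;> omega
  rcases hcases with rfl | rfl
  · have : g = 1 := by
      apply Subtype.ext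
      ext1 v
      apply Subtype.ext
      change ((g • v : leechLattice) : GolayPt → ℤ) = (v : GolayPt → ℤ)
      rw [hact]
      funext j
      simp [signedPerm]
      rfl
    rw [this]
    exact Subgroup.one_mem _
  · have : g = negEl := by
      apply Subtype.ext
      ext1 v
      apply Subtype.ext
      change ((g • v : leechLattice) : GolayPt → ℤ) = ((negEl • v : leechLattice) : GolayPt → ℤ)
      rw [hact, negEl_apply]
      funext j
      simp [signedPerm]
      rfl
    rw [this]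
    exact Subgroup.mem_center_iff.mpr fun h => (negEl_central h).symm

/-- Lists of two vectors differing by a minimal vector. -/
def L48a : List ℤ := [5, 1, 1, 1, 1, 1, 1, 1, 1, 1, 1, 1, 1, 1, 1, 1, 1, 1, 1, 1, 1, 1, 1, 1]
def L48b : List ℤ := [1, 5, 1, 1, 1, 1, 1, 1, 1, 1, 1, 1, 1, 1, 1, 1, 1, 1, 1, 1, 1, 1, 1, 1]
def L64a : List ℤ := [4, 4, 4, 4, 0, 0, 0, 0, 0, 0, 0, 0, 0, 0, 0, 0, 0, 0, 0, 0, 0, 0, 0, 0]
def L64b : List ℤ := [4, 4, 4, 0, 4, 0, 0, 0, 0, 0, 0, 0, 0, 0, 0, 0, 0, 0, 0, 0, 0, 0, 0, 0]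
def L32a : List ℤ := [4, -4, 0, 0, 0, 0, 0, 0, 0, 0, 0, 0, 0, 0, 0, 0, 0, 0, 0, 0, 0, 0, 0, 0]
def L32b : List ℤ := [0, 0, 0, 4, -4, 0, 0, 0, 0, 0, 0, 0, 0, 0, 0, 0, 0, 0, 0, 0, 0, 0, 0, 0]

theorem mem_of_lchk' {L : List ℤ} (hl : L.length = 24) (h : lchk L = true) : vecL L ∈ leechLattice :=
  (lchk_iff hl).mp h

theorem vec_sub_eq {L1 L2 L3 : List ℤ} (h : ∀ i < 24, getI L1 i - getI L2 i = getI L3 i) :
    vecL L1 - vecL L2 = vecL L3 := by
  funext q
  exact h _ (idx_lt q)

/-- An invariant subgroup between twice the lattice and the lattice. -/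
theorem invariant_cases (M : AddSubgroup (GolayPt → ℤ)) (h2 : ∀ v ∈ leechLattice, (2 : ℤ) • v ∈ M)
    (hle : M ≤ leechLattice)
    (hinv : ∀ (g : ↥Co0) (v : leechLattice), (v : GolayPt → ℤ) ∈ M → ((g • v : leechLattice) : GolayPt → ℤ) ∈ M) :
    (∀ x ∈ M, ∃ w ∈ leechLattice, x = (2 : ℤ) • w) ∨ M = leechLattice := by
  by_cases hall : ∀ x ∈ M, ∃ w ∈ leechLattice, x = (2 : ℤ) • w
  · exact Or.inl hall
  right
  push Not at hall
  obtain ⟨x, hxM, hx⟩ := hall
  obtain ⟨y, hy, hyN, z, hz, he⟩ := exists_short_vec x (hle hxM)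
  have hyM : y ∈ M := by
    have h3 : (2 : ℤ) • z ∈ M := h2 z hz
    have h4 : y = x - (2 : ℤ) • z := by
      funext j
      have h5 := congrFun he j
      simp only [Pi.sub_apply, Pi.smul_apply, nsmul_eq_mul, smul_eq_mul] at h5 ⊢
      push_cast at h5
      linarith
    rw [h4]
    exact M.sub_mem hxM h3
  have hy0 : y ≠ 0 := by
    rintro rfl
    apply hx z hz
    funext j
    have h5 := congrFun he j
    simp only [Pi.sub_apply, Pi.zero_apply, Pi.smul_apply, nsmul_eq_mul, smul_eq_mul, sub_zero] at h5 ⊢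
    push_cast at h5
    linarith
  have h32 := thirtytwo_le hy hy0
  have h16 := sixteen_dvd_sqNorm hy
  have hN : sqNorm y = 32 ∨ sqNorm y = 48 ∨ sqNorm y = 64 := by omega
  -- a minimal vector in the subgroup
  have hmin : ∃ t ∈ M, sqNorm t = 32 := by
    rcases hN with h5 | h5 | h5
    · exact ⟨y, hyM, h5⟩
    · have ha : vecL L48a ∈ leechLattice := mem_of_lchk' (by decide) (by decide +kernel)
      have hb : vecL L48b ∈ leechLattice := mem_of_lchk' (by decide) (by decide +kernel)
      have hna : sqNorm (vecL L48a) = 48 := by rw [sqNorm_vecL]; decide +kernel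
      have hnb : sqNorm (vecL L48b) = 48 := by rw [sqNorm_vecL]; decide +kernel
      obtain ⟨g1, hg1⟩ := trans48 ⟨y, hy⟩ ⟨_, ha⟩ h5 hna
      obtain ⟨g2, hg2⟩ := trans48 ⟨y, hy⟩ ⟨_, hb⟩ h5 hnb
      have h6 := hinv g1 ⟨y, hy⟩ hyM
      have h7 := hinv g2 ⟨y, hy⟩ hyM
      rw [hg1] at h6
      rw [hg2] at h7
      refine ⟨vecL L32a, ?_, by rw [sqNorm_vecL]; decide +kernel⟩
      rw [← vec_sub_eq (L1 := L48a) (L2 := L48b) (by decide +kernel)]
      exact M.sub_mem h6 h7
    · have ha : vecL L64a ∈ leechLattice := mem_of_lchk' (by decide) (by decide +kernel)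
      have hb : vecL L64b ∈ leechLattice := mem_of_lchk' (by decide) (by decide +kernel)
      have hna : sqNorm (vecL L64a) = 64 := by rw [sqNorm_vecL]; decide +kernel
      have hnb : sqNorm (vecL L64b) = 64 := by rw [sqNorm_vecL]; decide +kernel
      obtain ⟨g1, hg1⟩ := trans64 ⟨y, hy⟩ ⟨_, ha⟩ h5 hna
      obtain ⟨g2, hg2⟩ := trans64 ⟨y, hy⟩ ⟨_, hb⟩ h5 hnb
      have h6 := hinv g1 ⟨y, hy⟩ hyM
      have h7 := hinv g2 ⟨y, hy⟩ hyM
      rw [hg1] at h6
      rw [hg2] at h7
      refine ⟨vecL L32b, ?_, by rw [sqNorm_vecL]; decide +kernel⟩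
      rw [← vec_sub_eq (L1 := L64a) (L2 := L64b) (by decide +kernel)]
      exact M.sub_mem h6 h7
  obtain ⟨t, htM, htN⟩ := hmin
  apply le_antisymm hle
  rw [← leech_closure_min, AddSubgroup.closure_le]
  rintro u ⟨hu, huN⟩
  obtain ⟨g, hg⟩ := trans32 ⟨t, hle htM⟩ ⟨u, hu⟩ htN huN
  have h6 := hinv g ⟨t, hle htM⟩ htM
  rw [hg] at h6
  exact h6

end CfsgLib.Leech
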