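/-
Computed checks for the normal forms.
-/
import Cfsg.Agent.Lib.Leech.Nf

set_option autoImplicit false
set_option maxRecDepth 100000

namespace CfsgLib.Leech

open Cfsg CfsgLib.Golay

theorem red_Ra32 : redChk (prof 0 3 0 0) E_Ra32 [] = true := by decide +kernel
theorem chk_Ra32 : signChk (prof 0 3 0 0) Ra32 E_Ra32 [] = true := by decide +kernel
theorem red_Rb32 : redChk (prof 0 0 0 octO) E_Rb32 [12] = true := by decide +kernel
theorem chk_Rb32 : signChk (prof 0 0 0 octO) Rb32 E_Rb32 [12] = true := by decide +kernel
theorem red_Ra48 : redChk (prof 0 0 0 dod0) E_Ra48 [17] = true := by decide +kernel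
theorem chk_Ra48 : signChk (prof 0 0 0 dod0) Ra48 E_Ra48 [17] = true := by decide +kernel
theorem red_Rc48 : redChk (prof 0 32 0 octO) E_Rc48 [12] = true := by decide +kernel
theorem chk_Rc48 : signChk (prof 0 32 0 octO) Rc48 E_Rc48 [12] = true := by decide +kernel
theorem red_R4444 : redChk (prof 0 15 0 0) E_R4444 [] = true := by decide +kernel
theorem chk_R4444 : signChk (prof 0 15 0 0) R4444 E_R4444 [] = true := by decide +kernel
theorem red_R8 : redChk (prof 1 0 0 0) E_R8 [] = true := by decide +kernel
theorem chk_R8 : signChk (prof 1 0 0 0) R8 E_R8 [] = true := by decide +kernel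
theorem red_R6222 : redChk (prof 0 0 1 octO) E_R6222 [12] = true := by decide +kernel
theorem chk_R6222 : signChk (prof 0 0 1 octO) R6222 E_R6222 [12] = true := by decide +kernel
theorem red_R44222 : redChk (prof 0 96 0 octO) E_R44222 [12] = true := by decide +kernel
theorem chk_R44222 : signChk (prof 0 96 0 octO) R44222 E_R44222 [12] = true := by decide +kernel
theorem red_R4212 : redChk (prof 0 1 0 (dod0 ^^^ 0xffffff)) E_R4212 [23] = true := by decide +kernel
theorem chk_R4212 : signChk (prof 0 1 0 (dod0 ^^^ 0xffffff)) R4212 E_R4212 [23] = true := by decide +kernel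
theorem none_R444 : noSign (prof 0 7 0 0) [0, 1, 2] = true := by decide +kernel

theorem path_ok_Rb32 : path_Rb32.all stepOK = true := by decide +kernel
theorem path_eq_Rb32 : path_Rb32.foldl (fun M s => stepL s M) Rb32 = Ra32 := by decide +kernel
theorem path_ok_Rc32 : path_Rc32.all stepOK = true := by decide +kernel
theorem path_eq_Rc32 : path_Rc32.foldl (fun M s => stepL s M) (profOdd 1 0) = Ra32 := by decide +kernel
theorem path_ok_R348 : path_R348.all stepOK = true := by decide +kernel
theorem path_eq_R348 : path_R348.foldl (fun M s => stepL s M) (profOdd 7 0) = profOdd 0 1 := by decide +kernel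
theorem path_ok_Ra48 : path_Ra48.all stepOK = true := by decide +kernel
theorem path_eq_Ra48 : path_Ra48.foldl (fun M s => stepL s M) Ra48 = profOdd 0 1 := by decide +kernel
theorem path_ok_Rc48 : path_Rc48.all stepOK = true := by decide +kernel
theorem path_eq_Rc48 : path_Rc48.foldl (fun M s => stepL s M) Rc48 = profOdd 0 1 := by decide +kernel
theorem path_ok_R4444 : path_R4444.all stepOK = true := by decide +kernel
theorem path_eq_R4444 : path_R4444.foldl (fun M s => stepL s M) R4444 = R8 := by decide +kernel
theorem path_ok_R6222 : path_R6222.all stepOK = true := by decide +kernel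
theorem path_eq_R6222 : path_R6222.foldl (fun M s => stepL s M) R6222 = R8 := by decide +kernel
theorem path_ok_R44222 : path_R44222.all stepOK = true := by decide +kernel
theorem path_eq_R44222 : path_R44222.foldl (fun M s => stepL s M) R44222 = R8 := by decide +kernel
theorem path_ok_R4212 : path_R4212.all stepOK = true := by decide +kernel
theorem path_eq_R4212 : path_R4212.foldl (fun M s => stepL s M) R4212 = R8 := by decide +kernel
theorem path_ok_R2a : path_R2a.all stepOK = true := by decide +kernel
theorem path_eq_R2a : path_R2a.foldl (fun M s => stepL s M) R2a = R8 := by decide +kernel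
theorem path_ok_R2b : path_R2b.all stepOK = true := by decide +kernel
theorem path_eq_R2b : path_R2b.foldl (fun M s => stepL s M) R2b = R8 := by decide +kernel
theorem path_ok_R35 : path_R35.all stepOK = true := by decide +kernel
theorem path_eq_R35 : path_R35.foldl (fun M s => stepL s M) (profOdd 31 0) = R8 := by decide +kernel
theorem path_ok_R533 : path_R533.all stepOK = true := by decide +kernel
theorem path_eq_R533 : path_R533.foldl (fun M s => stepL s M) (profOdd 6 1) = R8 := by decide +kernel

/-- Sign change of a list to a target, through the echelon words of the support of size sixteen. -/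
def signTo (L R : List ℤ) : Bool := sgnVec L (wit E_R2 (negMask L ^^^ negMask R)) == R

/-- The check for the vectors with sixteen coordinates of absolute value two. -/
def r2Chk : Bool :=
  (subsetsOf [19, 20, 21, 22, 23]).all fun D =>
    !(lchk (sgnVec (prof 0 0 0 (octO ^^^ 0xffffff)) D)) ||
      signTo (sgnVec (prof 0 0 0 (octO ^^^ 0xffffff)) D) R2a ||
      ts16.any fun t => isAut t && signTo (monoL t 0 (sgnVec (prof 0 0 0 (octO ^^^ 0xffffff)) D)) R2b

theorem r2Chk_ok : r2Chk = true := by decide +kernel
theorem red_R2 : redChk (prof 0 0 0 (octO ^^^ 0xffffff)) E_R2 [19, 20, 21, 22, 23] = true := by decide +kernel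
theorem E_R2_mem : ∀ e ∈ E_R2, e.2 ∈ allCode := redChk_E red_R2

/-- The stabiliser of the octad and the point five is transitive on the other fifteen points. -/
def pairChk : Bool :=
  (List.range 24).all fun b => octO.testBit b || b == 5 ||
    pairEls.any fun g => isAut g && pa g 5 == 5 && pa g b == 6 && img g octO == octO

theorem pairChk_ok : pairChk = true := by decide +kernel

end CfsgLib.Leech
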