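/-
The automorphism group of the lattice modulo its centre is simple.
-/
import Cfsg.Agent.Lib.Leech.Max
import Cfsg.Agent.Lib.Leech.Module2
import Cfsg.Agent.Lib.Golay.SimpleBase
import Cfsg.Prelude.Def_Sporadic

set_option autoImplicit false
set_option maxRecDepth 100000

namespace CfsgLib.Leech

open Cfsg CfsgLib.Golay
open scoped Pointwise commutatorElement

theorem mono_congr {σ σ' : Equiv.Perm GolayPt} {c c' : Finset GolayPt} {hσ : σ ∈ M24} {hc : c ∈ Sup} {hσ' : σ' ∈ M24}
    {hc' : c' ∈ Sup} (h1 : σ = σ') (h2 : c = c') : mono σ c hσ hc = mono σ' c' hσ' hc' := by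
  subst h1
  subst h2
  rfl

theorem co0_ext {g h : ↥Co0} (he : ∀ v : leechLattice, ((g • v : leechLattice) : GolayPt → ℤ) = ((h • v : leechLattice) : GolayPt → ℤ)) :
    g = h := by
  apply Subtype.ext
  ext1 v
  exact Subtype.ext (he v)

/-- Multiplication of monomial elements. -/
theorem mono_mul (σ τ : Equiv.Perm GolayPt) (c d : Finset GolayPt) (hσ : σ ∈ M24) (hc : c ∈ Sup) (hτ : τ ∈ M24)
    (hd : d ∈ Sup) : mono σ c hσ hc * mono τ d hτ hd =
      mono (σ * τ) (symmDiff c (σ • d)) (M24.mul_mem hσ hτ) (sup_symmDiff hc (M24_smul_mem hσ hd)) := by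
  apply co0_ext
  intro v
  rw [mul_smul, mono_apply, mono_apply, mono_apply]
  funext i
  simp only [signedPerm, Finset.mem_symmDiff, mem_smul_iff_inv]
  have h1 : (σ * τ).symm i = τ.symm (σ.symm i) := rfl
  have h2 : σ⁻¹ i = σ.symm i := rfl
  rw [h1, h2]
  by_cases h3 : i ∈ c <;> by_cases h4 : σ.symm i ∈ d <;> simp [h3, h4]

theorem mono_one : mono 1 ∅ M24.one_mem sup_empty = 1 := by
  apply co0_ext
  intro v
  rw [mono_apply, one_smul]
  funext i
  simp [signedPerm]
  rfl

theorem mono_inv (σ : Equiv.Perm GolayPt) (hσ : σ ∈ M24) :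
    (mono σ ∅ hσ sup_empty)⁻¹ = mono σ⁻¹ ∅ (M24.inv_mem hσ) sup_empty := by
  apply inv_eq_of_mul_eq_one_left
  rw [mono_mul, ← mono_one]
  apply mono_congr
  · simp
  · simp

/-- Pure sign changes. -/
def eps (c : Finset GolayPt) (hc : c ∈ Sup) : ↥Co0 := mono 1 c M24.one_mem hc

theorem eps_mul (c d : Finset GolayPt) (hc : c ∈ Sup) (hd : d ∈ Sup) :
    eps c hc * eps d hd = eps (symmDiff c d) (sup_symmDiff hc hd) := by
  unfold eps
  rw [mono_mul]
  apply mono_congr
  · simp
  · simp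

theorem eps_sq (c : Finset GolayPt) (hc : c ∈ Sup) : eps c hc * eps c hc = 1 := by
  rw [eps_mul, ← mono_one]
  apply mono_congr rfl
  simp

theorem eps_inv (c : Finset GolayPt) (hc : c ∈ Sup) : (eps c hc)⁻¹ = eps c hc :=
  inv_eq_of_mul_eq_one_left (eps_sq c hc)

theorem mono_factor (σ : Equiv.Perm GolayPt) (c : Finset GolayPt) (hσ : σ ∈ M24) (hc : c ∈ Sup) :
    mono σ c hσ hc = eps c hc * mono σ ∅ hσ sup_empty := by
  unfold eps
  rw [mono_mul]
  apply mono_congr
  · simp
  · ext q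
    simp [Finset.mem_symmDiff]

theorem mono_conj_eps (σ : Equiv.Perm GolayPt) (c : Finset GolayPt) (hσ : σ ∈ M24) (hc : c ∈ Sup) :
    mono σ ∅ hσ sup_empty * eps c hc * (mono σ ∅ hσ sup_empty)⁻¹ = eps (σ • c) (M24_smul_mem hσ hc) := by
  rw [mono_inv]
  unfold eps
  rw [mono_mul, mono_mul]
  apply mono_congr
  · simp
  · simp

theorem fs_xor_mem {a b : ℕ} (ha : fs a ∈ Sup) (hb : fs b ∈ Sup) : fs (a ^^^ b) ∈ Sup := by
  rw [fs_xor]
  exact sup_symmDiff ha hb

theorem basis_mem_sup {b : ℕ} (hb : b ∈ basis) : fs b ∈ Sup := by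
  have hall : basis.all isCode = true := by decide +kernel
  exact fs_mem_supports (mem_allCode_of_isCode (List.all_eq_true.mp hall b hb))

/-- A subgroup containing the basic sign changes contains all sign changes. -/
theorem eps_mem_of_basis {K : Subgroup ↥Co0} (h : ∀ b (hb : b ∈ basis), eps (fs b) (basis_mem_sup hb) ∈ K) :
    ∀ c (hc : c ∈ Sup), eps c hc ∈ K := by
  have key : ∀ B : List ℕ, (∀ b ∈ B, b ∈ basis) → ∀ d ∈ spanList B, ∃ hd : fs d ∈ Sup, eps (fs d) hd ∈ K := by
    intro B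
    induction B with
    | nil =>
      intro _ d hd
      simp only [spanList, List.mem_singleton] at hd
      subst hd
      have h1 : fs 0 ∈ Sup := fs_mem_supports zero_mem_allCode
      refine ⟨h1, ?_⟩
      have : eps (fs 0) h1 = 1 := by
        rw [← mono_one]
        unfold eps
        exact mono_congr rfl fs_zero
      rw [this]
      exact K.one_mem
    | cons b B ih =>
      intro hB d hd
      have hB' : ∀ b ∈ B, b ∈ basis := fun x hx => hB x (List.mem_cons_of_mem _ hx)
      rcases mem_spanList_cons.mp hd with hd | ⟨e, he, rfl⟩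
      · exact ih hB' d hd
      · obtain ⟨h1, h2⟩ := ih hB' e he
        have hb := hB b List.mem_cons_self
        refine ⟨fs_xor_mem h1 (basis_mem_sup hb), ?_⟩
        have h3 := K.mul_mem h2 (h b hb)
        rw [eps_mul] at h3
        have : eps (fs (e ^^^ b)) (fs_xor_mem h1 (basis_mem_sup hb)) = eps (symmDiff (fs e) (fs b)) (sup_symmDiff h1 (basis_mem_sup hb)) := by
          unfold eps
          exact mono_congr rfl (fs_xor e b)
        rw [this]
        exact h3
  intro c hc
  obtain ⟨a, ha, rfl⟩ := (mem_supports_iff c).mp hc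
  obtain ⟨_, h2⟩ := key basis (fun _ h => h) a ha
  exact h2

/-- Basic sign changes are commutators. -/
theorem basis_chk : basis.all (fun b => octadList.any fun a => isCode a && decide (pop a = 8) && decide (pop (a ^^^ b) = 8)) = true := by
  decide +kernel

theorem eps_mem_commutator (b : ℕ) (hb : b ∈ basis) : eps (fs b) (basis_mem_sup hb) ∈ commutator ↥Co0 := by
  have h1 := List.all_eq_true.mp basis_chk b hb
  simp only [List.any_eq_true, Bool.and_eq_true, decide_eq_true_eq] at h1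
  obtain ⟨a, -, ⟨ha1, ha2⟩, ha3⟩ := h1
  have hA : a ∈ allCode := mem_allCode_of_isCode ha1
  have hAb : a ^^^ b ∈ allCode := xor_mem_allCode hA (by
    have hall : basis.all isCode = true := by decide +kernel
    exact mem_allCode_of_isCode (List.all_eq_true.mp hall b hb))
  have ho1 : fs a ∈ octads := (mem_octads_iff _).mpr ⟨a, hA, ha2, rfl⟩
  have ho2 : fs (a ^^^ b) ∈ octads := (mem_octads_iff _).mpr ⟨_, hAb, ha3, rfl⟩
  obtain ⟨σ, hσ, hs⟩ := M24_octad_trans ho1 ho2
  have hc : fs a ∈ Sup := fs_mem_supports hA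
  have h2 := Subgroup.commutator_mem_commutator (Subgroup.mem_top (mono σ ∅ hσ sup_empty)) (Subgroup.mem_top (eps (fs a) hc))
  have h3 : ⁅mono σ ∅ hσ sup_empty, eps (fs a) hc⁆ = eps (fs b) (basis_mem_sup hb) := by
    rw [commutatorElement_def, mono_conj_eps, eps_inv, eps_mul]
    unfold eps
    apply mono_congr rfl
    rw [hs, ← fs_xor]
    congr 1
    rw [Nat.xor_comm a b, Nat.xor_assoc, Nat.xor_self, Nat.xor_zero]
  rw [h3] at h2
  exact h2

theorem xi_sq : xiEl * xiEl = 1 := by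
  apply co0_ext
  intro v
  rw [mul_smul, one_smul, xiEl_apply, xiEl_apply]
  exact xiFun_xiFun (evenS_of_mem v.2)

theorem xi_inv : xiEl⁻¹ = xiEl := inv_eq_of_mul_eq_one_left xi_sq

/-- A coordinate vector as a list. -/
def ekL (k : ℕ) : List ℤ := (List.range 24).map fun i => if i = k then 8 else 0

theorem vecL_ekL {k : ℕ} (hk : k < 24) : vecL (ekL k) = Pi.single (pt k) 8 := by
  funext q
  have h1 : vecL (ekL k) q = getI (ekL k) (idx q) := rfl
  rw [h1]
  unfold ekL
  rw [getI_range_map _ (idx_lt q)]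
  by_cases h : q = pt k
  · subst h
    rw [idx_pt hk]
    simp
  · have h2 : idx q ≠ k := by
      intro h3
      apply h
      rw [← h3, pt_idx]
    simp [h2, Pi.single_eq_of_ne h]

/-- Conjugating a sign change by the special element. -/
def wordOf (d : ℕ) : List (ℕ × ℕ) := [(0, 0), (idP, d), (0, 0)]

theorem wordOf_ok {d : ℕ} (hd : isCode d = true) : (wordOf d).all stepOK = true := by
  have h : stepOK (idP, d) = true := by
    simp only [stepOK, Bool.or_eq_true, Bool.and_eq_true]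
    exact Or.inr ⟨by decide +kernel, hd⟩
  simp only [wordOf, List.all_cons, List.all_nil, Bool.and_true, Bool.and_eq_true]
  exact ⟨rfl, h, rfl⟩

theorem stepEl_eps {d : ℕ} (hd : isCode d = true) :
    stepEl (idP, d) = eps (fs d) (fs_mem_supports (mem_allCode_of_isCode hd)) := by
  unfold stepEl
  have h0 : ¬ idP = 0 := by decide +kernel
  rw [if_neg h0]
  have ha : isAut idP = true := by decide +kernel
  rw [dif_pos ⟨ha, hd⟩]
  unfold eps
  exact mono_congr mk_idP rfl

theorem stepEl_xi : stepEl (0, 0) = xiEl := by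
  unfold stepEl
  rw [if_pos rfl]

theorem word_mem {K : Subgroup ↥Co0} (hK : K.Normal) {d : ℕ} (hd : isCode d = true)
    (h : eps (fs d) (fs_mem_supports (mem_allCode_of_isCode hd)) ∈ K) : pathEl (wordOf d) ∈ K := by
  have h1 : pathEl (wordOf d) = xiEl * eps (fs d) (fs_mem_supports (mem_allCode_of_isCode hd)) * xiEl⁻¹ := by
    simp only [wordOf, pathEl, one_mul, stepEl_xi, stepEl_eps hd, xi_inv]
  rw [h1]
  exact hK.conj_mem _ h _

/-- An explicit monomial element. -/
def sig0 : ℕ := 970538992418718774876113737513730146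
def cc0 : ℕ := 4299781
def dd1 : ℕ := 525274
def dd2 : ℕ := 262637

theorem dd1_code : isCode dd1 = true := by decide +kernel
theorem dd2_code : isCode dd2 = true := by decide +kernel
theorem cc0_code : isCode cc0 = true := by decide +kernel
theorem sig0_aut : isAut sig0 = true := by decide +kernel

theorem word1_chk : (List.range 24).all (fun k =>
    ((wordOf dd1).foldl (fun M s => stepL s M) (ekL k)) == monoL sig0 cc0 (ekL k)) = true := by decide +kernel

theorem word2_chk : (wordOf dd2).foldl (fun M s => stepL s M) (ekL 0) =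
    [-4, -4, 4, 4, 0, 0, 0, 0, 0, 0, 0, 0, 0, 0, 0, 0, 0, 0, 0, 0, 0, 0, 0, 0] := by decide +kernel

theorem ekL_mem {k : ℕ} (hk : k < 24) : vecL (ekL k) ∈ leechLattice := by
  rw [vecL_ekL hk]
  exact (e8 (pt k)).2

theorem word1_eq : pathEl (wordOf dd1) = mono (CfsgLib.Golay.mk sig0) (fs cc0) (mk_mem_M24 sig0_aut)
    (fs_mem_supports (mem_allCode_of_isCode cc0_code)) := by
  apply Co0_ext_e8
  intro i
  apply Subtype.ext
  have hk := idx_lt i
  have h1 : e8 i = ⟨vecL (ekL (idx i)), ekL_mem hk⟩ := by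
    apply Subtype.ext
    change Pi.single i 8 = vecL (ekL (idx i))
    rw [vecL_ekL hk, pt_idx]
  rw [h1, pathEl_apply _ (wordOf_ok dd1_code), mono_apply]
  have h2 := List.all_eq_true.mp word1_chk (idx i) (List.mem_range.mpr hk)
  rw [beq_iff_eq.mp h2]
  exact (signedPerm_vecL (isAut_valid sig0_aut) _ _).symm

theorem word2_not : pathEl (wordOf dd2) ∉ stdSub := by
  intro h
  have h1 := h (e8 (pt 0)) (e8_mem_std _)
  have h2 : e8 (pt 0) = ⟨vecL (ekL 0), ekL_mem (by norm_num)⟩ := by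
    apply Subtype.ext
    change Pi.single (pt 0) 8 = vecL (ekL 0)
    rw [vecL_ekL (by norm_num)]
  rw [h2, pathEl_apply _ (wordOf_ok dd2_code), word2_chk] at h1
  obtain ⟨j, s, -, he⟩ := h1
  have e0 := congrFun he (pt 0)
  have e1 := congrFun he (pt 1)
  by_cases h3 : pt 0 = j
  · subst h3
    rw [Pi.single_eq_of_ne (by decide)] at e1
    exact absurd e1 (by decide +kernel)
  · rw [Pi.single_eq_of_ne h3] at e0
    exact absurd e0 (by decide +kernel)

/-- A normal subgroup containing all sign changes is everything. -/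
theorem top_of_eps {K : Subgroup ↥Co0} (hK : K.Normal) (h : ∀ c (hc : c ∈ Sup), eps c hc ∈ K) : K = ⊤ := by
  have h1 := word_mem hK dd1_code (h _ _)
  have h2 := word_mem hK dd2_code (h _ _)
  rw [word1_eq, mono_factor] at h1
  have h3 : mono (CfsgLib.Golay.mk sig0) ∅ (mk_mem_M24 sig0_aut) sup_empty ∈ K := by
    have h4 := K.mul_mem (K.inv_mem (h _ (fs_mem_supports (mem_allCode_of_isCode cc0_code)))) h1
    simpa using h4
  -- the normal subgroup of the code group
  let L : Subgroup ↥M24 :=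
    { carrier := {σ | mono σ.1 ∅ σ.2 sup_empty ∈ K}
      one_mem' := by
        change mono 1 ∅ _ _ ∈ K
        rw [mono_one]
        exact K.one_mem
      mul_mem' := by
        intro a b ha hb
        have h5 := K.mul_mem ha hb
        rw [mono_mul] at h5
        have : mono (a * b : ↥M24).1 ∅ (a * b).2 sup_empty = mono (a.1 * b.1) (symmDiff ∅ (a.1 • ∅)) (M24.mul_mem a.2 b.2) (sup_symmDiff sup_empty (M24_smul_mem a.2 sup_empty)) :=
          mono_congr rfl (by simp)
        change mono (a * b : ↥M24).1 ∅ (a * b).2 sup_empty ∈ K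
        rw [this]
        exact h5
      inv_mem' := by
        intro a ha
        have h5 := K.inv_mem ha
        rw [mono_inv] at h5
        exact h5 }
  have hLn : L.Normal := by
    constructor
    intro a ha τ
    have h5 := hK.conj_mem _ ha (mono τ.1 ∅ τ.2 sup_empty)
    rw [mono_inv, mono_mul, mono_mul] at h5
    change mono (τ * a * τ⁻¹ : ↥M24).1 ∅ (τ * a * τ⁻¹).2 sup_empty ∈ K
    have h6 : mono (τ * a * τ⁻¹ : ↥M24).1 ∅ (τ * a * τ⁻¹).2 sup_empty =
        mono ((τ : Equiv.Perm GolayPt) * a * (τ : Equiv.Perm GolayPt)⁻¹)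
          (symmDiff (symmDiff ∅ ((τ : Equiv.Perm GolayPt) • (∅ : Finset GolayPt)))
            (((τ : Equiv.Perm GolayPt) * a) • (∅ : Finset GolayPt)))
          (M24.mul_mem (M24.mul_mem τ.2 a.2) (M24.inv_mem τ.2))
          (sup_symmDiff (sup_symmDiff sup_empty (M24_smul_mem τ.2 sup_empty)) (M24_smul_mem (M24.mul_mem τ.2 a.2) sup_empty)) :=
      mono_congr rfl (by simp)
    rw [h6]
    exact h5
  have hLtop : L = ⊤ := by
    rcases simple_M24.eq_bot_or_eq_top_of_normal L hLn with h5 | h5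
    · exfalso
      have h6 : (⟨CfsgLib.Golay.mk sig0, mk_mem_M24 sig0_aut⟩ : ↥M24) ∈ L := h3
      rw [h5, Subgroup.mem_bot] at h6
      have h7 : CfsgLib.Golay.mk sig0 = 1 := congrArg Subtype.val h6
      have h8 := congrArg (fun g : Equiv.Perm GolayPt => g (pt 0)) h7
      simp only [Equiv.Perm.one_apply] at h8
      rw [mk_pt (isAut_valid sig0_aut) (by norm_num)] at h8
      have h9 := congrArg idx h8
      rw [idx_pt (pa_lt (isAut_valid sig0_aut) (by norm_num : (0 : ℕ) < 24)), idx_pt (by norm_num : (0 : ℕ) < 24)] at h9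
      exact absurd h9 (by decide +kernel)
    · exact h5
  have hN : stdSub ≤ K := by
    intro g hg
    obtain ⟨σ, hσ, c, hc, hact⟩ := monomial_of_std g hg
    rw [mono_eq_of_act hσ hc hact, mono_factor]
    refine K.mul_mem (h _ _) ?_
    have h5 : (⟨σ, hσ⟩ : ↥M24) ∈ L := by
      rw [hLtop]
      exact Subgroup.mem_top _
    exact h5
  apply stdSub_coatom.2
  refine lt_of_le_of_ne hN ?_
  intro he
  apply word2_not
  rw [he]
  exact h2

/-- The group is perfect. -/
theorem commutator_top : commutator ↥Co0 = ⊤ :=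
  top_of_eps (inferInstance) (eps_mem_of_basis eps_mem_commutator)

/-- Normal subgroups inside the monomial subgroup are central. -/
theorem central_of_normal_le {T : Subgroup ↥Co0} (hT : T.Normal) (hle : T ≤ stdSub) : T ≤ Subgroup.center ↥Co0 := by
  intro t ht
  -- the additive map
  let δ : leechLattice →+ leechLattice := addHomOf t - AddMonoidHom.id _
  let P : AddSubgroup leechLattice := (DD.addSubgroupOf leechLattice).comap δ
  let M : AddSubgroup (GolayPt → ℤ) := P.map leechLattice.subtype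
  have hmemP : ∀ v : leechLattice, v ∈ P ↔ ∃ z ∈ leechLattice, ((t • v : leechLattice) : GolayPt → ℤ) - (v : GolayPt → ℤ) = (2 : ℕ) • z := by
    intro v
    change δ v ∈ DD.addSubgroupOf leechLattice ↔ _
    rw [AddSubgroup.mem_addSubgroupOf, mem_DD]
    rfl
  have h64 : ∀ x : leechLattice, sqNorm (x : GolayPt → ℤ) = 64 → x ∈ P := by
    intro x hx
    rw [hmemP]
    obtain ⟨g, hg⟩ := trans64 (e8 (pt 0)) x (stdCross_norm (e8_mem_std _)) hx
    have h1 : g⁻¹ * t * g ∈ T := by
      have := hT.conj_mem t ht g⁻¹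
      simpa using this
    have h2 := hle h1 (e8 (pt 0)) (e8_mem_std _)
    rw [← cross_single (pt 0) (s := 8) (Or.inl rfl)] at h2
    obtain ⟨-, -, z, hz, he⟩ := h2
    have h3 : ((g⁻¹ * t * g) • e8 (pt 0)) - e8 (pt 0) = (2 : ℕ) • (-(⟨z, hz⟩ : leechLattice)) := by
      apply Subtype.ext
      have h4 := he
      funext j
      have h5 := congrFun h4 j
      simp only [Pi.sub_apply, Pi.smul_apply, nsmul_eq_mul] at h5
      change (((g⁻¹ * t * g) • e8 (pt 0) : leechLattice) : GolayPt → ℤ) j - ((e8 (pt 0) : leechLattice) : GolayPt → ℤ) j = ((2 : ℕ) • (-(⟨z, hz⟩ : leechLattice)) : leechLattice).1 j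
      have h6 : ((e8 (pt 0) : leechLattice) : GolayPt → ℤ) j = (Pi.single (pt 0) 8 : GolayPt → ℤ) j := rfl
      have h7 : ((2 : ℕ) • (-(⟨z, hz⟩ : leechLattice)) : leechLattice).1 j = 2 * (-z j) := by
        change ((2 : ℕ) • (-z)) j = _
        rw [Pi.smul_apply, nsmul_eq_mul]
        rfl
      rw [h6, h7]
      push_cast at h5
      linarith
    have h4 := smul_congr g h3
    have h5 : g • ((g⁻¹ * t * g) • e8 (pt 0)) = t • x := by
      rw [← hg]
      simp only [mul_smul, smul_inv_smul]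
    rw [h5, hg] at h4
    refine ⟨_, (g • -(⟨z, hz⟩ : leechLattice)).2, congrArg Subtype.val h4⟩
  have hM : M = leechLattice := by
    apply le_antisymm
    · rintro x ⟨v, -, rfl⟩
      exact v.2
    · rw [← leech_closure_min, AddSubgroup.closure_le]
      rintro u ⟨hu, huN⟩
      have ha : vecL L64a ∈ leechLattice := mem_of_lchk' (by decide) (by decide +kernel)
      have hb : vecL L64b ∈ leechLattice := mem_of_lchk' (by decide) (by decide +kernel)
      have hna : sqNorm (vecL L64a) = 64 := by rw [sqNorm_vecL]; decide +kernel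
      have hnb : sqNorm (vecL L64b) = 64 := by rw [sqNorm_vecL]; decide +kernel
      have hc : vecL L32b ∈ leechLattice := mem_of_lchk' (by decide) (by decide +kernel)
      have hnc : sqNorm (vecL L32b) = 32 := by rw [sqNorm_vecL]; decide +kernel
      obtain ⟨g, hg⟩ := trans32 ⟨_, hc⟩ ⟨u, hu⟩ hnc huN
      have h1 : (⟨u, hu⟩ : leechLattice) = g • (⟨_, ha⟩ : leechLattice) - g • (⟨_, hb⟩ : leechLattice) := by
        rw [← hg]
        change _ = addHomOf g _ - addHomOf g _
        rw [← map_sub]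
        rw [addHomOf_apply]
        congr 1
        apply Subtype.ext
        exact (vec_sub_eq (L1 := L64a) (L2 := L64b) (by decide +kernel)).symm
      have h2 : (⟨u, hu⟩ : leechLattice) ∈ P := by
        rw [h1]
        exact P.sub_mem (h64 _ (by rw [sqNorm_smul_Co0]; exact hna)) (h64 _ (by rw [sqNorm_smul_Co0]; exact hnb))
      exact ⟨_, h2, rfl⟩
  apply central_of_trivial
  intro v
  have h1 : (v : GolayPt → ℤ) ∈ M := by
    rw [hM]
    exact v.2
  obtain ⟨v', hv', hvv⟩ := h1
  have h2 : v' = v := Subtype.ext hvv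
  subst h2
  obtain ⟨z, hz, he⟩ := (hmemP _).mp hv'
  exact ⟨⟨z, hz⟩, he⟩

/-- The subgroup of sign changes. -/
def epsSub : Subgroup ↥Co0 where
  carrier := {g | ∃ c, ∃ hc : c ∈ Sup, g = eps c hc}
  one_mem' := ⟨∅, sup_empty, mono_one.symm⟩
  mul_mem' := by
    rintro _ _ ⟨c, hc, rfl⟩ ⟨d, hd, rfl⟩
    exact ⟨_, _, eps_mul c d hc hd⟩
  inv_mem' := by
    rintro _ ⟨c, hc, rfl⟩
    exact ⟨c, hc, eps_inv c hc⟩

theorem epsSub_comm {a b : ↥Co0} (ha : a ∈ epsSub) (hb : b ∈ epsSub) : a * b = b * a := by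
  obtain ⟨c, hc, rfl⟩ := ha
  obtain ⟨d, hd, rfl⟩ := hb
  rw [eps_mul, eps_mul]
  unfold eps
  exact mono_congr rfl (symmDiff_comm c d)

theorem mono_conj_mem {n a : ↥Co0} (hn : n ∈ stdSub) (ha : a ∈ epsSub) : n * a * n⁻¹ ∈ epsSub := by
  obtain ⟨σ, hσ, c, hc, hact⟩ := monomial_of_std n hn
  obtain ⟨d, hd, rfl⟩ := ha
  rw [mono_eq_of_act hσ hc hact, mono_factor]
  have h1 := mono_conj_eps σ d hσ hd
  have h2 : eps c hc * mono σ ∅ hσ sup_empty * eps d hd * (eps c hc * mono σ ∅ hσ sup_empty)⁻¹ =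
      eps c hc * (mono σ ∅ hσ sup_empty * eps d hd * (mono σ ∅ hσ sup_empty)⁻¹) * (eps c hc)⁻¹ := by group
  rw [h2, h1, eps_inv, epsSub_comm (⟨c, hc, rfl⟩ : eps c hc ∈ epsSub) ⟨_, _, rfl⟩, mul_assoc, eps_sq, mul_one]
  exact ⟨_, _, rfl⟩

/-- A normal subgroup outside the monomial subgroup is everything. -/
theorem top_of_not_le {T : Subgroup ↥Co0} (hT : T.Normal) (hnle : ¬ T ≤ stdSub) : T = ⊤ := by
  have hsup : stdSub ⊔ T = ⊤ := by
    apply stdSub_coatom.2
    refine lt_of_le_of_ne le_sup_left ?_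
    intro he
    exact hnle (by rw [he]; exact le_sup_right)
  have hdec : ∀ g : ↥Co0, ∃ n ∈ stdSub, ∃ t ∈ T, g = n * t := by
    intro g
    have h1 : g ∈ (↑(stdSub ⊔ T) : Set ↥Co0) := by rw [hsup]; trivial
    rw [Subgroup.mul_normal] at h1
    obtain ⟨n, hn, t, ht, rfl⟩ := Set.mem_mul.mp h1
    exact ⟨n, hn, t, ht, rfl⟩
  have hdec2 : ∀ k ∈ epsSub ⊔ T, ∃ a ∈ epsSub, ∃ t ∈ T, k = a * t := by
    intro k hk
    have h1 : k ∈ (↑(epsSub ⊔ T) : Set ↥Co0) := hk
    rw [Subgroup.mul_normal] at h1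
    obtain ⟨n, hn, t, ht, rfl⟩ := Set.mem_mul.mp h1
    exact ⟨n, hn, t, ht, rfl⟩
  have hK0 : (epsSub ⊔ T).Normal := by
    constructor
    intro k hk g
    obtain ⟨n, hn, t, ht, rfl⟩ := hdec g
    have h1 : t * k * t⁻¹ ∈ epsSub ⊔ T :=
      Subgroup.mul_mem _ (Subgroup.mul_mem _ (Subgroup.mem_sup_right ht) hk) (Subgroup.inv_mem _ (Subgroup.mem_sup_right ht))
    obtain ⟨a, ha, s, hs, he⟩ := hdec2 _ h1
    have h2 : n * t * k * (n * t)⁻¹ = (n * a * n⁻¹) * (n * s * n⁻¹) := by
      have : n * t * k * (n * t)⁻¹ = n * (t * k * t⁻¹) * n⁻¹ := by group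
      rw [this, he]
      group
    rw [h2]
    exact Subgroup.mul_mem _ (Subgroup.mem_sup_left (mono_conj_mem hn ha)) (Subgroup.mem_sup_right (hT.conj_mem s hs n))
  have hK0top : epsSub ⊔ T = ⊤ := top_of_eps hK0 fun c hc => Subgroup.mem_sup_left ⟨c, hc, rfl⟩
  have hcomm : commutator ↥Co0 ≤ T := by
    rw [commutator_eq_closure]
    rw [Subgroup.closure_le]
    rintro _ ⟨g, h, rfl⟩
    obtain ⟨a, ha, s, hs, rfl⟩ := hdec2 g (by rw [hK0top]; trivial)
    obtain ⟨b, hb, r, hr, rfl⟩ := hdec2 h (by rw [hK0top]; trivial)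
    change ⁅a * s, b * r⁆ ∈ T
    rw [← QuotientGroup.eq_one_iff, commutatorElement_def]
    have h1 : ((s : ↥Co0) : ↥Co0 ⧸ T) = 1 := (QuotientGroup.eq_one_iff s).mpr hs
    have h2 : ((r : ↥Co0) : ↥Co0 ⧸ T) = 1 := (QuotientGroup.eq_one_iff r).mpr hr
    simp only [QuotientGroup.mk_mul, QuotientGroup.mk_inv, h1, h2, mul_one, inv_one, mul_inv_rev, one_mul]
    have h3 : ((a : ↥Co0) : ↥Co0 ⧸ T) * (b : ↥Co0) = ((b : ↥Co0) : ↥Co0 ⧸ T) * (a : ↥Co0) := by
      rw [← QuotientGroup.mk_mul, ← QuotientGroup.mk_mul, epsSub_comm ha hb]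
    rw [h3]
    group
  rw [commutator_top] at hcomm
  exact top_le_iff.mp hcomm

theorem card_quot : Nat.card (↥Co0 ⧸ Subgroup.center ↥Co0) = 4157776806543360000 := by
  have h := Subgroup.card_eq_card_quotient_mul_card_subgroup (Subgroup.center ↥Co0)
  rw [card_center_Co0, card_Co0] at h
  omega

/-- The first Conway group. -/
theorem isCo1_quot : IsCo1 (↥Co0 ⧸ Subgroup.center ↥Co0) := by
  refine ⟨?_, card_quot⟩
  have hfin : Finite (↥Co0 ⧸ Subgroup.center ↥Co0) := Nat.finite_of_card_ne_zero (by rw [card_quot]; norm_num)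
  have hnt : Nontrivial (↥Co0 ⧸ Subgroup.center ↥Co0) := by
    apply Finite.one_lt_card_iff_nontrivial.mp
    rw [card_quot]
    norm_num
  refine ⟨fun Q hQ => ?_⟩
  let T : Subgroup ↥Co0 := Q.comap (QuotientGroup.mk' (Subgroup.center ↥Co0))
  have hT : T.Normal := hQ.comap _
  by_cases hle : T ≤ stdSub
  · left
    rw [eq_bot_iff]
    intro q hq
    obtain ⟨g, rfl⟩ := QuotientGroup.mk_surjective q
    have h1 : g ∈ T := hq
    exact (QuotientGroup.eq_one_iff g).mpr (central_of_normal_le hT hle h1)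
  · right
    rw [eq_top_iff]
    intro q _
    obtain ⟨g, rfl⟩ := QuotientGroup.mk_surjective q
    have h1 : g ∈ T := by
      rw [top_of_not_le hT hle]
      trivial
    exact h1

end CfsgLib.Leech
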